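import Cfsg.Agent.Lib.Classical.Symplectic.MatrixTransvection
import Cfsg.Prelude.Def_LieTypeDatum

/-!
# Transvections of `PSp` and the automorphisms induced by semilinear similitudes
-/

set_option autoImplicit false
set_option linter.style.haveILetI false

namespace CfsgLib.Known.AutPSp

open scoped Matrix
open CfsgLib.Classical

variable {m : ℕ} {F : Type*} [Field F]

/-- the natural module -/
abbrev Vec (m : ℕ) (F : Type*) : Type _ := Fin m ⊕ Fin m → F

/-- Mathlib's symplectic group -/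
abbrev SpM (m : ℕ) (F : Type*) [Field F] : Type _ := Matrix.symplecticGroup (Fin m) F

/-- the alternating form -/
noncomputable abbrev bf : LinearMap.BilinForm F (Vec m F) := Symp.sympBil m F

/-- the action on vectors -/
def act (s : SpM m F) (x : Vec m F) : Vec m F := (s : Matrix (Fin m ⊕ Fin m) (Fin m ⊕ Fin m) F) *ᵥ x

theorem act_mul (s t : SpM m F) (x : Vec m F) : act (s * t) x = act s (act t x) :=
  (Matrix.mulVec_mulVec _ _ _).symm

theorem act_one (x : Vec m F) : act (1 : SpM m F) x = x := Matrix.one_mulVec _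

theorem act_inv_act (s : SpM m F) (x : Vec m F) : act s⁻¹ (act s x) = x := by
  rw [← act_mul, inv_mul_cancel, act_one]

theorem act_act_inv (s : SpM m F) (x : Vec m F) : act s (act s⁻¹ x) = x := by
  rw [← act_mul, mul_inv_cancel, act_one]

theorem act_add (s : SpM m F) (x y : Vec m F) : act s (x + y) = act s x + act s y := Matrix.mulVec_add _ _ _

theorem act_sub (s : SpM m F) (x y : Vec m F) : act s (x - y) = act s x - act s y := Matrix.mulVec_sub _ _ _

theorem act_smul (s : SpM m F) (a : F) (x : Vec m F) : act s (a • x) = a • act s x := Matrix.mulVec_smul _ _ _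

theorem act_injective (s : SpM m F) : Function.Injective (act s) := fun x y h => by
  rw [← act_inv_act s x, h, act_inv_act]

theorem act_ne_zero (s : SpM m F) {x : Vec m F} (hx : x ≠ 0) : act s x ≠ 0 := fun h =>
  hx (act_injective s (h.trans (Matrix.mulVec_zero _).symm))

theorem bf_act (s : SpM m F) (x y : Vec m F) : bf (act s x) (act s y) = bf x y := by
  rw [Symp.sympBil_apply, Symp.sympBil_apply]
  exact Symp.mem_symplecticGroup_iff_form.1 s.2 x y

theorem ext_act {s t : SpM m F} (h : ∀ x, act s x = act t x) : s = t :=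
  Subtype.ext (Matrix.toLin'.injective (LinearMap.ext fun x => h x))

theorem bf_self (v : Vec m F) : bf v v = 0 := Symp.sympBil_isAlt m F v

theorem bf_swap (u v : Vec m F) : bf v u = -bf u v := Symp.swap (Symp.sympBil_isAlt m F) u v

theorem bf_eq_zero_comm {u v : Vec m F} : bf u v = 0 ↔ bf v u = 0 := by rw [bf_swap u v, neg_eq_zero]

theorem mem_center_iff {s : SpM m F} : s ∈ Subgroup.center (SpM m F) ↔ ∃ a : F, ∀ x, act s x = a • x := by
  constructor
  · intro hs
    refine (Symp.mem_center_iff_smul (Symp.sympBil_isAlt m F) (Symp.sympBil_nondegenerate m F)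
      (g := Symp.symplecticEquiv m F s)).1 (Subgroup.mem_center_iff.2 fun g => ?_)
    obtain ⟨t, rfl⟩ := (Symp.symplecticEquiv m F).surjective g
    rw [← map_mul, ← map_mul, Subgroup.mem_center_iff.1 hs t]
  · rintro ⟨a, ha⟩
    exact Subgroup.mem_center_iff.2 fun t => ext_act fun x => by rw [act_mul, act_mul, ha, ha, act_smul]

/-- the projection to `PSp` -/
def proj (m : ℕ) (F : Type*) [Field F] : SpM m F →* Cfsg.PSp m F := QuotientGroup.mk' _

theorem proj_surjective : Function.Surjective (proj m F) := QuotientGroup.mk_surjective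

theorem exists_scalar {s t : SpM m F} (h : proj m F s = proj m F t) : ∃ a : F, ∀ x, act t x = a • act s x := by
  obtain ⟨a, ha⟩ := mem_center_iff.1 (QuotientGroup.eq.1 h)
  refine ⟨a, fun x => ?_⟩
  have h1 := congrArg (act s) (ha x)
  rwa [act_mul, act_act_inv, act_smul] at h1

theorem proj_eq_of_scalar {s t : SpM m F} {a : F} (h : ∀ x, act t x = a • act s x) : proj m F s = proj m F t := by
  refine QuotientGroup.eq.2 (mem_center_iff.2 ⟨a, fun x => act_injective s ?_⟩)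
  rw [act_mul, act_act_inv, h, act_smul]

/-- a transvection -/
def tv (v : Vec m F) (c : F) : SpM m F := ⟨Cfsg.sympTransvection m v c, Symp.sympTransvection_mem v c⟩

theorem tv_act (v : Vec m F) (c : F) (x : Vec m F) : act (tv v c) x = x + (c * bf x v) • v := by
  rw [act, show ((tv v c : SpM m F) : Matrix (Fin m ⊕ Fin m) (Fin m ⊕ Fin m) F) = Cfsg.sympTransvection m v c from rfl,
    ← Symp.symplecticEquiv_symm_tr, Symp.symplecticEquiv_symm_mulVec, Symp.tr_apply]

theorem tv_fix {v x : Vec m F} (c : F) (h : bf x v = 0) : act (tv v c) x = x := by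
  rw [tv_act, h, mul_zero, zero_smul, add_zero]

theorem tv_mul (v : Vec m F) (c d : F) : tv v c * tv v d = tv v (c + d) :=
  Subtype.ext (Symp.sympTransvection_mul v c d)

theorem tv_zero (v : Vec m F) : tv v 0 = 1 := ext_act fun x => by simp [tv_act, act_one]

theorem tv_inv (v : Vec m F) (c : F) : (tv v c)⁻¹ = tv v (-c) :=
  inv_eq_of_mul_eq_one_right (by rw [tv_mul, add_neg_cancel, tv_zero])

theorem tv_smul (a : F) (v : Vec m F) (c : F) : tv (a • v) c = tv v (a ^ 2 * c) := ext_act fun x => by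
  simp only [tv_act, LinearMap.map_smul, smul_eq_mul, smul_smul]
  congr 2
  ring

theorem conj_tv (s : SpM m F) (v : Vec m F) (c : F) : s * tv v c * s⁻¹ = tv (act s v) c := ext_act fun x => by
  rw [act_mul, act_mul, tv_act, tv_act, act_add, act_smul, act_act_inv, ← bf_act s (act s⁻¹ x) v, act_act_inv]

/-- a transvection of `PSp` -/
def T (v : Vec m F) (c : F) : Cfsg.PSp m F := proj m F (tv v c)

theorem T_mul (v : Vec m F) (c d : F) : T v c * T v d = T v (c + d) := by rw [T, T, T, ← map_mul, tv_mul]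

theorem T_zero (v : Vec m F) : T v 0 = (1 : Cfsg.PSp m F) := by rw [T, tv_zero, map_one]

theorem T_inv (v : Vec m F) (c : F) : (T v c)⁻¹ = T v (-c) := by rw [T, T, ← map_inv, tv_inv]

theorem T_smul (a : F) (v : Vec m F) (c : F) : T (a • v) c = T v (a ^ 2 * c) := by rw [T, tv_smul, T]

theorem conj_T (s : SpM m F) (v : Vec m F) (c : F) : proj m F s * T v c * (proj m F s)⁻¹ = T (act s v) c := by
  rw [T, T, ← map_inv, ← map_mul, ← map_mul, conj_tv]

theorem T_conj_T (v w : Vec m F) (c d : F) :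
    T v c * T w d * (T v c)⁻¹ = T (w + (c * bf w v) • v) d := by
  rw [show T v c = proj m F (tv v c) from rfl, conj_T, tv_act]

theorem exists_perp_two (hm : 2 ≤ m) (v w : Vec m F) : ∃ x : Vec m F, x ≠ 0 ∧ bf x v = 0 ∧ bf x w = 0 := by
  obtain ⟨x, hx, hx0⟩ := Submodule.exists_mem_ne_zero_of_ne_bot
    (LinearMap.ker_ne_bot_of_finrank_lt (f := (LinearMap.flip bf v).prod (LinearMap.flip bf w)) (by
      rw [Symp.finrank_sympSpace, Module.finrank_prod, Module.finrank_self]; omega))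
  have h := LinearMap.mem_ker.1 hx
  exact ⟨x, hx0, congrArg Prod.fst h, congrArg Prod.snd h⟩

theorem exists_bf_eq_one {v : Vec m F} (hv : v ≠ 0) : ∃ x : Vec m F, bf x v = 1 := by
  obtain ⟨x, -, hx⟩ := Symp.exists_partner (Symp.nondeg_top (Symp.sympBil_nondegenerate m F))
    (Submodule.mem_top (x := v)) hv
  exact ⟨-x, by rw [LinearMap.BilinForm.neg_left, bf_swap v x, neg_neg, hx]⟩

/-- vectors with the same orthogonal hyperplane are parallel -/
theorem par_of_perp {w w' : Vec m F} (hw : w ≠ 0) (h : ∀ u, bf w u = 0 → bf w' u = 0) : ∃ a : F, w' = a • w := by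
  obtain ⟨x, hx⟩ := exists_bf_eq_one hw
  have h1 : bf w (-x) = 1 := by rw [LinearMap.BilinForm.neg_right, bf_swap x w, neg_neg, hx]
  refine ⟨bf w' (-x), ?_⟩
  rw [← sub_eq_zero]
  refine (Symp.sympBil_nondegenerate m F).1 _ fun u => ?_
  have h2 := h (u - bf w u • -x) (by rw [map_sub, LinearMap.map_smul, h1, smul_eq_mul, mul_one, sub_self])
  rw [map_sub, LinearMap.map_smul, smul_eq_mul, sub_eq_zero] at h2
  rw [map_sub, LinearMap.map_smul, LinearMap.sub_apply, LinearMap.smul_apply, smul_eq_mul, h2]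
  ring

theorem T_eq_iff (hm : 2 ≤ m) {v w : Vec m F} {c d : F} (hv : v ≠ 0) (hc : c ≠ 0) (h : T v c = T w d) :
    ∃ a : F, a ≠ 0 ∧ w = a • v ∧ c = a ^ 2 * d := by
  obtain ⟨b, hb⟩ := exists_scalar h
  obtain ⟨x, hx0, hxv, hxw⟩ := exists_perp_two hm v w
  have hb1 : b = 1 := by
    have h1 := hb x
    rw [tv_fix d hxw, tv_fix c hxv] at h1
    exact smul_left_injective F hx0 (h1.symm.trans (one_smul F x).symm)
  have h2 : ∀ y, (d * bf y w) • w = (c * bf y v) • v := fun y => by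
    have h3 := hb y
    rwa [hb1, one_smul, tv_act, tv_act, add_right_inj] at h3
  obtain ⟨y, hy⟩ := exists_bf_eq_one hv
  have h4 := h2 y
  rw [hy, mul_one] at h4
  have hk : d * bf y w ≠ 0 := fun e => by
    rw [e, zero_smul] at h4
    exact hc ((smul_eq_zero.1 h4.symm).resolve_right hv)
  obtain ⟨a, ha⟩ : ∃ a : F, w = a • v := ⟨(d * bf y w)⁻¹ * c, by
    rw [← smul_smul, ← h4, smul_smul, inv_mul_cancel₀ hk, one_smul]⟩
  subst ha
  rw [LinearMap.map_smul, hy, smul_eq_mul, mul_one, smul_smul] at h4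
  have h5 : d * a * a = c := smul_left_injective F hv h4
  refine ⟨a, fun e => ?_, rfl, by rw [← h5]; ring⟩
  rw [e, mul_zero] at h5
  exact hc h5.symm

theorem T_ne_one (hm : 2 ≤ m) {v : Vec m F} {c : F} (hv : v ≠ 0) (hc : c ≠ 0) : T v c ≠ (1 : Cfsg.PSp m F) := by
  intro h
  rw [← T_zero v] at h
  obtain ⟨a, -, -, h2⟩ := T_eq_iff hm hv hc h
  exact hc (by rw [h2, mul_zero])

theorem ne_zero_of_T_ne_one {v : Vec m F} {c : F} (h : T v c ≠ (1 : Cfsg.PSp m F)) : v ≠ 0 ∧ c ≠ 0 := by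
  constructor <;> rintro rfl <;> refine h ?_
  · rw [T, show tv (0 : Vec m F) c = 1 from ext_act fun x => by simp [tv_act, act_one], map_one]
  · exact T_zero v

theorem T_inj (hm : 2 ≤ m) {v : Vec m F} {c d : F} (hv : v ≠ 0) (h : T v c = T v d) : c = d := by
  rcases eq_or_ne c d with e | e
  · exact e
  refine absurd ?_ (T_ne_one hm hv (sub_ne_zero.2 e))
  rw [sub_eq_add_neg, ← T_mul, h, T_mul, add_neg_cancel, T_zero]

theorem T_commute_iff (hm : 2 ≤ m) {v w : Vec m F} {c d : F} (hv : v ≠ 0) (hw : w ≠ 0) (hc : c ≠ 0) (hd : d ≠ 0) :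
    Commute (T v c) (T w d) ↔ bf v w = 0 := by
  constructor
  · intro h
    have h1 := T_conj_T v w c d
    rw [h.eq, mul_inv_cancel_right] at h1
    obtain ⟨a, -, h2, -⟩ := T_eq_iff hm hw hd h1
    by_contra hvw
    have hwv : bf w v ≠ 0 := fun e => hvw (bf_eq_zero_comm.1 e)
    have h3 := congrArg (fun x => bf x v) h2
    simp only [map_add, LinearMap.map_smul, LinearMap.add_apply, LinearMap.smul_apply, smul_eq_mul, bf_self,
      mul_zero, add_zero] at h3
    have ha : a = 1 := mul_right_cancel₀ hwv (by rw [one_mul]; exact h3.symm)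
    rw [ha, one_smul, add_eq_left, smul_eq_zero, mul_eq_zero] at h2
    exact h2.elim (fun h4 => h4.elim hc hwv) hv
  · intro h
    show T v c * T w d = T w d * T v c
    rw [← mul_inv_eq_iff_eq_mul, T_conj_T, bf_eq_zero_comm.1 h, mul_zero, zero_smul, add_zero]

/-! ### semilinear similitudes -/

/-- `σ` applied to the coordinates -/
def vmap (σ : F ≃+* F) (v : Vec m F) : Vec m F := fun i => σ (v i)

theorem vmap_refl (v : Vec m F) : vmap (RingEquiv.refl F) v = v := rfl

theorem bf_vmap (σ : F ≃+* F) (u v : Vec m F) : bf (vmap σ u) (vmap σ v) = σ (bf u v) := by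
  simp [Symp.sympBil_apply, Symp.sympForm_expand, vmap, map_sum]

theorem map_mulVec_vmap (σ : F ≃+* F) (M : Matrix (Fin m ⊕ Fin m) (Fin m ⊕ Fin m) F) (v : Vec m F) :
    M.map σ *ᵥ vmap σ v = vmap σ (M *ᵥ v) :=
  funext fun i => (RingHom.map_mulVec (σ : F →+* F) M v i).symm

theorem vmap_symm (σ : F ≃+* F) (v : Vec m F) : vmap σ (vmap σ.symm v) = v :=
  funext fun _ => σ.apply_symm_apply _

theorem symm_vmap (σ : F ≃+* F) (v : Vec m F) : vmap σ.symm (vmap σ v) = v :=
  funext fun _ => σ.symm_apply_apply _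

/-- the automorphism group of `PSp` -/
abbrev GSpM (m : ℕ) (F : Type*) [Field F] : Type _ := Cfsg.GSp m F

/-- `v ↦ g σ(v)` -/
def semiVec (g : GL (Fin m ⊕ Fin m) F) (σ : F ≃+* F) (v : Vec m F) : Vec m F :=
  (g : Matrix (Fin m ⊕ Fin m) (Fin m ⊕ Fin m) F) *ᵥ vmap σ v

theorem semiVec_surjective (g : GL (Fin m ⊕ Fin m) F) (σ : F ≃+* F) : Function.Surjective (semiVec g σ) := fun x =>
  ⟨vmap σ.symm (((g⁻¹ : GL (Fin m ⊕ Fin m) F) : Matrix (Fin m ⊕ Fin m) (Fin m ⊕ Fin m) F) *ᵥ x), by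
    rw [semiVec, vmap_symm, Matrix.mulVec_mulVec, Units.mul_inv, Matrix.one_mulVec]⟩

theorem semiVec_mul_inv (g : GL (Fin m ⊕ Fin m) F) (σ : F ≃+* F) (M : Matrix (Fin m ⊕ Fin m) (Fin m ⊕ Fin m) F)
    (v : Vec m F) :
    ((g : Matrix (Fin m ⊕ Fin m) (Fin m ⊕ Fin m) F) * M.map σ *
      ((g⁻¹ : GL (Fin m ⊕ Fin m) F) : Matrix (Fin m ⊕ Fin m) (Fin m ⊕ Fin m) F)) *ᵥ semiVec g σ v =
    semiVec g σ (M *ᵥ v) := by
  rw [semiVec, Matrix.mulVec_mulVec, mul_assoc ((g : Matrix (Fin m ⊕ Fin m) (Fin m ⊕ Fin m) F) * M.map σ),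
    Units.inv_mul, mul_one, ← Matrix.mulVec_mulVec, map_mulVec_vmap, semiVec]

theorem exists_mult {g : GL (Fin m ⊕ Fin m) F} (hg : g ∈ Cfsg.GSp m F) :
    ∃ μ : Fˣ, ∀ (σ : F ≃+* F) (u v : Vec m F), bf (semiVec g σ u) (semiVec g σ v) = (μ : F) * σ (bf u v) := by
  obtain ⟨μ, h⟩ := hg
  exact ⟨μ, fun σ u v => by rw [← bf_vmap, Symp.sympBil_apply, Symp.sympBil_apply, semiVec, semiVec, h]⟩

/-- `s ↦ g σ(s) g⁻¹` -/
def spConjHom (g : GSpM m F) (σ : F ≃+* F) : SpM m F →* SpM m F where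
  toFun s := ⟨((g : GL (Fin m ⊕ Fin m) F) : Matrix (Fin m ⊕ Fin m) (Fin m ⊕ Fin m) F) *
      (s : Matrix (Fin m ⊕ Fin m) (Fin m ⊕ Fin m) F).map σ *
      (((g : GL (Fin m ⊕ Fin m) F)⁻¹ : GL (Fin m ⊕ Fin m) F) : Matrix (Fin m ⊕ Fin m) (Fin m ⊕ Fin m) F), by
    rw [Symp.mem_symplecticGroup_iff_form]
    intro x y
    obtain ⟨u, rfl⟩ := semiVec_surjective (g : GL (Fin m ⊕ Fin m) F) σ x
    obtain ⟨v, rfl⟩ := semiVec_surjective (g : GL (Fin m ⊕ Fin m) F) σ y
    obtain ⟨μ, hμ⟩ := exists_mult g.2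
    rw [semiVec_mul_inv, semiVec_mul_inv, ← Symp.sympBil_apply, ← Symp.sympBil_apply, hμ, hμ]
    exact congrArg (fun z => (μ : F) * σ z) (bf_act s u v)⟩
  map_one' := Subtype.ext (by
    show _ * (1 : Matrix (Fin m ⊕ Fin m) (Fin m ⊕ Fin m) F).map σ * _ = 1
    rw [Matrix.map_one _ (map_zero σ) (map_one σ), mul_one, Units.mul_inv])
  map_mul' s t := Subtype.ext (by
    show _ * ((s : Matrix (Fin m ⊕ Fin m) (Fin m ⊕ Fin m) F) * (t : Matrix _ _ F)).map σ * _ =
      (_ * (s : Matrix (Fin m ⊕ Fin m) (Fin m ⊕ Fin m) F).map σ * _) *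
        (_ * (t : Matrix (Fin m ⊕ Fin m) (Fin m ⊕ Fin m) F).map σ * _)
    rw [Matrix.map_mul]
    simp only [mul_assoc, Units.inv_mul_cancel_left])

theorem spConjHom_act (g : GSpM m F) (σ : F ≃+* F) (s : SpM m F) (v : Vec m F) :
    act (spConjHom g σ s) (semiVec g σ v) = semiVec g σ (act s v) :=
  semiVec_mul_inv _ σ _ v

theorem spConjHom_tv (g : GSpM m F) (σ : F ≃+* F) {μ : Fˣ}
    (hμ : ∀ (σ : F ≃+* F) (u v : Vec m F),
      bf (semiVec g σ u) (semiVec g σ v) = (μ : F) * σ (bf u v)) (v : Vec m F) (c : F) :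
    spConjHom g σ (tv v c) = tv (semiVec g σ v) (σ c / μ) := ext_act fun x => by
  obtain ⟨u, rfl⟩ := semiVec_surjective (g : GL (Fin m ⊕ Fin m) F) σ x
  have h0 : σ c / (μ : F) * ((μ : F) * σ (bf u v)) = σ (c * bf u v) := by
    rw [map_mul, ← mul_assoc, div_mul_cancel₀ _ μ.ne_zero]
  have h1 : vmap σ (u + (c * bf u v) • v) = vmap σ u + σ (c * bf u v) • vmap σ v :=
    funext fun i => by simp [vmap]
  rw [spConjHom_act, tv_act, tv_act, hμ, h0, semiVec, h1, Matrix.mulVec_add, Matrix.mulVec_smul]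
  rfl

theorem exists_symm_mem (g : GSpM m F) (σ : F ≃+* F) :
    ∃ g' : GSpM m F, (∀ v : Vec m F, semiVec (g' : GL (Fin m ⊕ Fin m) F) σ.symm (semiVec g σ v) = v) ∧
      ∀ v : Vec m F, semiVec g σ (semiVec (g' : GL (Fin m ⊕ Fin m) F) σ.symm v) = v := by
  let e : Matrix (Fin m ⊕ Fin m) (Fin m ⊕ Fin m) F ≃+* Matrix (Fin m ⊕ Fin m) (Fin m ⊕ Fin m) F :=
    σ.symm.mapMatrix
  let g' : GL (Fin m ⊕ Fin m) F := Units.map e.toMonoidHom (g : GL (Fin m ⊕ Fin m) F)⁻¹
  have hval : (g' : Matrix (Fin m ⊕ Fin m) (Fin m ⊕ Fin m) F) =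
      (((g : GL (Fin m ⊕ Fin m) F)⁻¹ : GL (Fin m ⊕ Fin m) F) : Matrix _ _ F).map σ.symm := rfl
  have h1 : ∀ v, semiVec g' σ.symm (semiVec g σ v) = v := fun v => by
    rw [semiVec, hval, map_mulVec_vmap, semiVec, Matrix.mulVec_mulVec, Units.inv_mul, Matrix.one_mulVec, symm_vmap]
  have h2 : ∀ v, semiVec g σ (semiVec g' σ.symm v) = v := fun v => by
    obtain ⟨u, rfl⟩ := semiVec_surjective (g : GL (Fin m ⊕ Fin m) F) σ v
    rw [h1]
  refine ⟨⟨g', ?_⟩, h1, h2⟩
  obtain ⟨μ, hμ⟩ := exists_mult g.2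
  refine ⟨(Units.map σ.symm.toMonoidHom μ)⁻¹, fun a b => ?_⟩
  rw [← Symp.sympBil_apply, ← Symp.sympBil_apply]
  have e1 : ∀ w, semiVec g' σ.symm (vmap σ w) = (g' : Matrix (Fin m ⊕ Fin m) (Fin m ⊕ Fin m) F) *ᵥ w := fun w => by
    rw [semiVec, symm_vmap]
  have h5 := hμ σ ((g' : Matrix (Fin m ⊕ Fin m) (Fin m ⊕ Fin m) F) *ᵥ a) ((g' : Matrix _ _ F) *ᵥ b)
  rw [← e1, ← e1, h2, h2, bf_vmap] at h5
  have h6 := congrArg σ.symm h5
  simp only [map_mul, RingEquiv.symm_apply_apply] at h6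
  rw [← e1, ← e1, h6, ← mul_assoc, Units.val_inv_eq_inv_val]
  simp

/-- the automorphism of the symplectic group given by a semilinear similitude -/
noncomputable def spConj (g : GSpM m F) (σ : F ≃+* F) : SpM m F ≃* SpM m F where
  toFun := spConjHom g σ
  invFun := spConjHom (exists_symm_mem g σ).choose σ.symm
  left_inv s := ext_act fun x => by
    have h := (exists_symm_mem g σ).choose_spec
    obtain ⟨u, rfl⟩ : ∃ u, semiVec (exists_symm_mem g σ).choose σ.symm u = x := ⟨_, h.1 x⟩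
    rw [spConjHom_act]
    obtain ⟨v, rfl⟩ := semiVec_surjective (g : GL (Fin m ⊕ Fin m) F) σ u
    rw [spConjHom_act, h.1, h.1]
  right_inv s := ext_act fun x => by
    have h := (exists_symm_mem g σ).choose_spec
    obtain ⟨u, rfl⟩ := semiVec_surjective (g : GL (Fin m ⊕ Fin m) F) σ x
    obtain ⟨v, rfl⟩ : ∃ v, semiVec (exists_symm_mem g σ).choose σ.symm v = u := ⟨_, h.1 u⟩
    rw [spConjHom_act, spConjHom_act, h.2, h.2]
  map_mul' := map_mul _

/-- the automorphism of `PSp` given by a semilinear similitude -/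
noncomputable def semilin (g : GSpM m F) (σ : F ≃+* F) : MulAut (Cfsg.PSp m F) :=
  QuotientGroup.congr _ _ (spConj g σ) (by
    refine le_antisymm ?_ fun x hx => ?_
    · rintro _ ⟨x, hx, rfl⟩
      refine Subgroup.mem_center_iff.2 fun y => ?_
      obtain ⟨z, rfl⟩ := (spConj g σ).surjective y
      exact (map_mul _ _ _).symm.trans ((congrArg _ (Subgroup.mem_center_iff.1 hx z)).trans (map_mul _ _ _))
    · obtain ⟨z, rfl⟩ := (spConj g σ).surjective x
      refine ⟨z, Subgroup.mem_center_iff.2 fun y => (spConj g σ).injective ?_, rfl⟩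
      rw [map_mul, map_mul, Subgroup.mem_center_iff.1 hx])

theorem semilin_proj (g : GSpM m F) (σ : F ≃+* F) (s : SpM m F) :
    semilin g σ (proj m F s) = proj m F (spConjHom g σ s) := rfl

theorem isInduced_semilin (g : GSpM m F) (σ : F ≃+* F) :
    Cfsg.IsInducedBySemilinearPSp (g : GL (Fin m ⊕ Fin m) F) σ (semilin g σ) := fun s s' h =>
  congrArg (QuotientGroup.mk (s := Subgroup.center (SpM m F))) (Subtype.ext h.symm : spConjHom g σ s = s')

theorem semilin_mem_gamma (g : GSpM m F) (σ : F ≃+* F) : semilin g σ ∈ Cfsg.gammaPSp m F :=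
  Subgroup.subset_closure ⟨g, σ, g.2, isInduced_semilin g σ⟩

theorem semilin_T (g : GSpM m F) (σ : F ≃+* F) {μ : Fˣ}
    (hμ : ∀ (σ : F ≃+* F) (u v : Vec m F),
      bf (semiVec g σ u) (semiVec g σ v) = (μ : F) * σ (bf u v)) (v : Vec m F) (c : F) :
    semilin g σ (T v c) = T (semiVec g σ v) (σ c / μ) := by
  rw [T, semilin_proj, spConjHom_tv g σ hμ, T]

theorem psp_hom_ext {H : Type*} [MulOneClass H] {α β : Cfsg.PSp m F →* H} (h : ∀ v c, α (T v c) = β (T v c)) :
    α = β := by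
  refine MonoidHom.ext fun x => ?_
  obtain ⟨s, rfl⟩ := proj_surjective x
  have hs : s ∈ Subgroup.closure {A : SpM m F | ∃ (w : Vec m F) (c : F),
      (A : Matrix (Fin m ⊕ Fin m) (Fin m ⊕ Fin m) F) = Cfsg.sympTransvection m w c} := by
    rw [Symp.closure_sympTransvection_eq_top]; trivial
  induction hs using Subgroup.closure_induction'' with
  | one => simp
  | mem A hA => obtain ⟨w, c, e⟩ := hA; rw [show A = tv w c from Subtype.ext e]; exact h w c
  | inv_mem A hA =>
    obtain ⟨w, c, e⟩ := hA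
    rw [show A = tv w c from Subtype.ext e, tv_inv]
    exact h w (-c)
  | mul a b ha hb ea eb => rw [map_mul, map_mul, ea, eb, map_mul]

end CfsgLib.Known.AutPSp
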