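import Cfsg.Agent.Lib.Known.AutPSp.Basic
import Cfsg.Agent.Lib.Classical.Symplectic.Geometry

/-!
# Automorphisms of `PSp` send transvections to transvections

The elements commuting with an explicit unipotent group are, up to a scalar, transvections and (in characteristic two)
elements of rank two; the latter have too large classes.
-/

set_option autoImplicit false
set_option linter.style.haveILetI false

namespace CfsgLib.Known.AutPSp

open scoped Matrix
open CfsgLib.Classical

variable {m : ℕ} {F : Type*} [Field F]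

/-- the standard vectors `e i` -/
abbrev ev (i : Fin m) : Vec m F := Pi.single (Sum.inl i) 1

/-- the standard vectors `f i` -/
abbrev fv (i : Fin m) : Vec m F := Pi.single (Sum.inr i) 1

theorem bf_ev_left (i : Fin m) (y : Vec m F) : bf (ev i) y = -y (Sum.inr i) := by
  simp [Symp.sympBil_apply, Symp.sympForm_expand, Pi.single_apply]

theorem bf_fv_left (i : Fin m) (y : Vec m F) : bf (fv i) y = y (Sum.inl i) := by
  simp [Symp.sympBil_apply, Symp.sympForm_expand, Pi.single_apply]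

theorem bf_ev_right (i : Fin m) (x : Vec m F) : bf x (ev i) = x (Sum.inr i) := by
  rw [bf_swap (ev i) x, bf_ev_left, neg_neg]

theorem bf_fv_right (i : Fin m) (x : Vec m F) : bf x (fv i) = -x (Sum.inl i) := by
  rw [bf_swap (fv i) x, bf_fv_left]

theorem vec_eq (x : Vec m F) :
    x = ∑ i, x (Sum.inl i) • ev i + ∑ i, x (Sum.inr i) • fv i := by
  ext (j | j) <;> simp [Finset.sum_apply, Pi.single_apply]

/-! ### a unipotent group -/

/-- the position of a basis vector in a self-dual flag -/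
def rho : Fin m ⊕ Fin m → ℕ := Sum.elim (fun i => (i : ℕ)) fun i => 2 * m - 1 - i

/-- the matrix moves the flag at least `k` steps -/
def Deep (k : ℕ) (N : Matrix (Fin m ⊕ Fin m) (Fin m ⊕ Fin m) F) : Prop :=
  ∀ y x, rho x < rho y + k → N y x = 0

theorem Deep.mul {a b : ℕ} {M N : Matrix (Fin m ⊕ Fin m) (Fin m ⊕ Fin m) F} (hM : Deep a M) (hN : Deep b N) :
    Deep (a + b) (M * N) := by
  intro y x hxy
  rw [Matrix.mul_apply]
  refine Finset.sum_eq_zero fun z _ => ?_
  rcases Nat.lt_or_ge (rho z) (rho y + a) with h | h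
  · rw [hM y z h, zero_mul]
  · rw [hN z x (by omega), mul_zero]

theorem Deep.mono {a b : ℕ} {M : Matrix (Fin m ⊕ Fin m) (Fin m ⊕ Fin m) F} (h : b ≤ a) (hM : Deep a M) : Deep b M :=
  fun y x hxy => hM y x (by omega)

theorem deep_pow {N : Matrix (Fin m ⊕ Fin m) (Fin m ⊕ Fin m) F} (hN : Deep 1 N) :
    ∀ k : ℕ, 1 ≤ k → Deep k (N ^ k) := by
  intro k hk
  induction k, hk using Nat.le_induction with
  | base => simpa using hN
  | succ k hk ih => rw [pow_succ]; exact ih.mul hN

theorem deep_eq_zero {N : Matrix (Fin m ⊕ Fin m) (Fin m ⊕ Fin m) F} (hN : Deep (2 * m) N) : N = 0 := by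
  ext y x
  refine hN y x ?_
  rcases x with i | i <;> simp only [rho, Sum.elim_inl, Sum.elim_inr] <;> omega

/-- unipotent elements for the flag -/
def IsUni (s : SpM m F) : Prop := Deep 1 ((s : Matrix (Fin m ⊕ Fin m) (Fin m ⊕ Fin m) F) - 1)

theorem isUni_one : IsUni (1 : SpM m F) := fun y x _ => by simp [IsUni]

theorem IsUni.mul {s t : SpM m F} (hs : IsUni s) (ht : IsUni t) : IsUni (s * t) := by
  intro y x h
  have e : ((s * t : SpM m F) : Matrix (Fin m ⊕ Fin m) (Fin m ⊕ Fin m) F) - 1 =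
      ((s : Matrix _ _ F) - 1) * ((t : Matrix _ _ F) - 1) + ((s : Matrix _ _ F) - 1) + ((t : Matrix _ _ F) - 1) := by
    rw [show ((s * t : SpM m F) : Matrix (Fin m ⊕ Fin m) (Fin m ⊕ Fin m) F) = (s : Matrix _ _ F) * (t : Matrix _ _ F) from rfl]
    noncomm_ring
  rw [e, Matrix.add_apply, Matrix.add_apply, (Deep.mul hs ht) y x (by omega), hs y x h, ht y x h, add_zero, add_zero]

variable [Finite F]

variable (m F) in
/-- the unipotent group of the flag -/
def uni : Subgroup (SpM m F) where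
  carrier := {s | IsUni s}
  one_mem' := isUni_one
  mul_mem' := IsUni.mul
  inv_mem' {s} hs := by
    have : Fintype F := Fintype.ofFinite F
    have : Finite (SpM m F) := Subtype.finite
    obtain ⟨n, hn⟩ := (isOfFinOrder_of_finite s).exists_pow_eq_one
    have hp : ∀ k : ℕ, IsUni (s ^ k) := fun k => by
      induction k with
      | zero => rw [pow_zero]; exact isUni_one
      | succ k ih => rw [pow_succ]; exact ih.mul hs
    obtain ⟨n, rfl⟩ : ∃ n', n = n' + 1 := ⟨n - 1, by omega⟩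
    show IsUni s⁻¹
    rw [show s⁻¹ = s ^ n from inv_eq_of_mul_eq_one_left (by rw [← pow_succ]; exact hn.2)]
    exact hp n

theorem isPGroup_uni (hm : 1 ≤ m) (p : ℕ) [Fact p.Prime] [CharP F p] : IsPGroup p (uni m F) := by
  haveI : Nonempty (Fin m ⊕ Fin m) := ⟨Sum.inl ⟨0, hm⟩⟩
  rintro ⟨s, hs⟩
  refine ⟨2 * m + 1, Subtype.ext (Subtype.ext ?_)⟩
  have hk : 2 * m ≤ p ^ (2 * m + 1) :=
    (Nat.le_succ _).trans (Nat.lt_pow_self (Fact.out : p.Prime).one_lt).le
  show ((s ^ p ^ (2 * m + 1) : SpM m F) : Matrix (Fin m ⊕ Fin m) (Fin m ⊕ Fin m) F) = 1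
  rw [SubmonoidClass.coe_pow, show (s : Matrix (Fin m ⊕ Fin m) (Fin m ⊕ Fin m) F) = ((s : Matrix _ _ F) - 1) + 1 from
    (sub_add_cancel _ _).symm, add_pow_char_pow_of_commute _ _ (Commute.one_right _), one_pow,
    deep_eq_zero ((deep_pow hs _ (Nat.one_le_pow _ _ (Fact.out : p.Prime).pos)).mono hk), zero_add]

omit [Finite F] in
theorem tv_entry (v : Vec m F) (c : F) (y x : Fin m ⊕ Fin m) :
    ((tv v c : Matrix (Fin m ⊕ Fin m) (Fin m ⊕ Fin m) F) - 1) y x = c * v y * bf (Pi.single x 1) v := by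
  have h := congrFun (tv_act v c (Pi.single x 1)) y
  rw [act, Matrix.mulVec_single_one] at h
  simp only [Matrix.col_apply, Pi.add_apply, Pi.smul_apply, smul_eq_mul] at h
  rw [Matrix.sub_apply, h, Matrix.one_apply, Pi.single_apply]
  ring

theorem tv_mem_uni {v : Vec m F} (hv : ∀ i, v (Sum.inr i) = 0) (c : F) : tv v c ∈ uni m F := by
  intro y x h
  rw [tv_entry]
  rcases y with a | a
  · rcases x with b | b
    · rw [show (Pi.single (Sum.inl b) 1 : Vec m F) = ev b from rfl, bf_ev_left, hv, neg_zero, mul_zero]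
    · simp only [rho, Sum.elim_inl, Sum.elim_inr] at h
      omega
  · rw [hv, mul_zero, zero_mul]

omit [Finite F] in
theorem shear_mem (i j : Fin m) (hij : i ≠ j) :
    (1 + Matrix.single (Sum.inl i) (Sum.inl j) (1 : F) - Matrix.single (Sum.inr j) (Sum.inr i) (1 : F) :
      Matrix (Fin m ⊕ Fin m) (Fin m ⊕ Fin m) F) ∈ Matrix.symplecticGroup (Fin m) F := by
  set M : Matrix (Fin m ⊕ Fin m) (Fin m ⊕ Fin m) F :=
    1 + Matrix.single (Sum.inl i) (Sum.inl j) (1 : F) - Matrix.single (Sum.inr j) (Sum.inr i) (1 : F)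
  have hM : ∀ x : Vec m F, M *ᵥ x = x + x (Sum.inl j) • ev i - x (Sum.inr i) • fv j := fun x => by
    ext k
    simp [M, Matrix.add_mulVec, Matrix.sub_mulVec, Matrix.single_mulVec, Function.update_apply, Pi.single_apply]
  rw [Symp.mem_symplecticGroup_iff_form]
  intro u v
  rw [← Symp.sympBil_apply, ← Symp.sympBil_apply, hM, hM]
  simp only [map_add, map_sub, LinearMap.add_apply, LinearMap.sub_apply, LinearMap.map_smul, LinearMap.smul_apply,
    smul_eq_mul, bf_ev_left, bf_fv_left, bf_ev_right, bf_fv_right]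
  simp [Pi.single_apply, hij, hij.symm]
  ring

/-- an elementary element of the unipotent group fixing the Lagrangian subspace -/
def shear (i j : Fin m) (hij : i ≠ j) : SpM m F := ⟨_, shear_mem i j hij⟩

omit [Finite F] in
theorem shear_act (i j : Fin m) (hij : i ≠ j) (x : Vec m F) :
    act (shear i j hij) x = x + x (Sum.inl j) • ev i - x (Sum.inr i) • fv j := by
  show (1 + Matrix.single (Sum.inl i) (Sum.inl j) (1 : F) - Matrix.single (Sum.inr j) (Sum.inr i) (1 : F) :
    Matrix (Fin m ⊕ Fin m) (Fin m ⊕ Fin m) F) *ᵥ x = _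
  ext k
  simp [Matrix.add_mulVec, Matrix.sub_mulVec, Matrix.single_mulVec, Function.update_apply, Pi.single_apply]

theorem shear_mem_uni {i j : Fin m} (hij : i < j) : shear i j hij.ne ∈ uni m F := by
  intro y x h
  show ((1 + Matrix.single (Sum.inl i) (Sum.inl j) (1 : F) - Matrix.single (Sum.inr j) (Sum.inr i) (1 : F) :
    Matrix (Fin m ⊕ Fin m) (Fin m ⊕ Fin m) F) - 1) y x = 0
  have h1 := i.2
  have h2 := j.2
  have h3 : (i : ℕ) < j := hij
  rw [show (1 + Matrix.single (Sum.inl i) (Sum.inl j) (1 : F) - Matrix.single (Sum.inr j) (Sum.inr i) (1 : F) :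
      Matrix (Fin m ⊕ Fin m) (Fin m ⊕ Fin m) F) - 1 =
    Matrix.single (Sum.inl i) (Sum.inl j) (1 : F) - Matrix.single (Sum.inr j) (Sum.inr i) (1 : F) by abel]
  have e1 : ¬ (Sum.inl i = y ∧ Sum.inl j = x) := by
    rintro ⟨rfl, rfl⟩
    simp only [rho, Sum.elim_inl] at h
    omega
  have e2 : ¬ (Sum.inr j = y ∧ Sum.inr i = x) := by
    rintro ⟨rfl, rfl⟩
    simp only [rho, Sum.elim_inr] at h
    omega
  rw [Matrix.sub_apply, Matrix.single_apply, Matrix.single_apply, if_neg e1, if_neg e2, sub_zero]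

/-! ### the elements commuting with the unipotent group -/

omit [Finite F] in
theorem scalar_of_eigen {z : SpM m F} (h : ∀ v : Vec m F, (∀ i, v (Sum.inr i) = 0) → ∃ a : F, act z v = a • v)
    (i₀ : Fin m) : ∃ a : F, a ≠ 0 ∧ ∀ v : Vec m F, (∀ i, v (Sum.inr i) = 0) → act z v = a • v := by
  have he : ∀ i k : Fin m, (ev i : Vec m F) (Sum.inr k) = 0 := fun i k => by simp
  obtain ⟨a, ha⟩ := h (ev i₀) (he i₀)
  have hz : a ≠ 0 := fun e => by
    rw [e, zero_smul] at ha
    exact act_ne_zero z (by simp : (ev i₀ : Vec m F) ≠ 0) ha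
  have hei : ∀ i, act z (ev i) = a • ev i := by
    intro i
    rcases eq_or_ne i i₀ with rfl | hi
    · exact ha
    obtain ⟨b, hb⟩ := h (ev i) (he i)
    obtain ⟨c, hc⟩ := h (ev i + ev i₀) (fun k => by simp)
    rw [act_add, hb, ha] at hc
    have h1 := congrFun hc (Sum.inl i)
    have h2 := congrFun hc (Sum.inl i₀)
    simp [Pi.single_apply, hi, hi.symm] at h1 h2
    rw [hb, h1, ← h2]
  refine ⟨a, hz, fun v hv => ?_⟩
  conv_lhs => rw [vec_eq v]
  conv_rhs => rw [vec_eq v]
  simp only [hv, zero_smul, Finset.sum_const_zero, add_zero, Finset.smul_sum]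
  rw [act, Matrix.mulVec_sum]
  refine Finset.sum_congr rfl fun i _ => ?_
  rw [← act, act_smul, hei, smul_comm]

/-- an element commuting with the unipotent group is a scalar times a symmetric `2 × 2` block -/
theorem centralizer_uni (hm : 2 ≤ m) {z : SpM m F} (hz : ∀ s ∈ uni m F, Commute (proj m F z) (proj m F s)) :
    ∃ a b c : F, a ^ 2 = 1 ∧ 2 * c = 0 ∧ ∀ x : Vec m F,
      act z x = a • x + (b * x (Sum.inr ⟨0, by omega⟩) + c * x (Sum.inr ⟨1, by omega⟩)) • ev ⟨0, by omega⟩ +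
        (c * x (Sum.inr ⟨0, by omega⟩)) • ev ⟨1, by omega⟩ := by
  set i0 : Fin m := ⟨0, by omega⟩
  set i1 : Fin m := ⟨1, by omega⟩
  have he : ∀ i k : Fin m, (ev i : Vec m F) (Sum.inr k) = 0 := fun i k => by simp
  have hev : ∀ v : Vec m F, (∀ i, v (Sum.inr i) = 0) → v ≠ 0 → ∃ d : F, act z v = d • v ∧ d ^ 2 = 1 := by
    intro v hv hv0
    have h := (hz _ (tv_mem_uni hv 1)).eq
    rw [← mul_inv_eq_iff_eq_mul, show proj m F (tv v 1) = T v 1 from rfl, conj_T] at h
    obtain ⟨d, -, hd, hd1⟩ := T_eq_iff hm hv0 one_ne_zero h.symm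
    exact ⟨d, hd, by rw [hd1, mul_one]⟩
  obtain ⟨a, -, hL⟩ := scalar_of_eigen (z := z) (fun v hv => by
    rcases eq_or_ne v 0 with rfl | hv0
    · exact ⟨0, by rw [act, Matrix.mulVec_zero, zero_smul]⟩
    obtain ⟨d, hd, -⟩ := hev v hv hv0
    exact ⟨d, hd⟩) i0
  have ha2 : a ^ 2 = 1 := by
    have hne : (ev i0 : Vec m F) ≠ 0 := by simp
    obtain ⟨d, hd, hd1⟩ := hev (ev i0) (he i0) hne
    rwa [smul_left_injective F hne ((hL (ev i0) (he i0)).symm.trans hd)]
  have ha : a ≠ 0 := fun e => by simp [e] at ha2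
  obtain ⟨b, hb⟩ : ∃ b : Fin m → Fin m → F, ∀ k l, act z (fv k) (Sum.inl l) = b k l := ⟨_, fun k l => rfl⟩
  have hinr : ∀ k l, act z (fv k) (Sum.inr l) = if k = l then a else 0 := by
    intro k l
    have h := bf_act z (fv k) (ev l)
    rw [hL _ (he l), LinearMap.map_smul, smul_eq_mul, bf_ev_right, bf_ev_right] at h
    apply mul_left_cancel₀ ha
    rw [h]
    rcases eq_or_ne k l with rfl | hkl
    · rw [if_pos rfl, ← pow_two, ha2]; simp
    · rw [if_neg hkl, mul_zero]; simp [hkl.symm]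
  have hfk : ∀ k, act z (fv k) = a • fv k + ∑ l, b k l • ev l := by
    intro k
    ext (l | l)
    · rw [hb]; simp [Finset.sum_apply, Pi.single_apply]
    · rw [hinr]
      rcases eq_or_ne k l with rfl | hkl
      · simp [Finset.sum_apply]
      · simp [Finset.sum_apply, hkl, hkl.symm]
  have hbs : ∀ k l (x : Vec m F), (∀ i, x (Sum.inr i) = 0) → bf x (fv l) = -x (Sum.inl l) ∧ bf (fv k) x = x (Sum.inl k) :=
    fun k l x _ => ⟨bf_fv_right l x, bf_fv_left k x⟩
  have hsym : ∀ k l, b k l = b l k := by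
    intro k l
    have h := bf_act z (fv k) (fv l)
    rw [bf_fv_left k (fv l), hfk l, map_add, LinearMap.map_smul, smul_eq_mul, bf_fv_right, hb, map_sum] at h
    simp only [LinearMap.map_smul, smul_eq_mul, bf_ev_right, hinr] at h
    simp only [mul_ite, mul_zero, Finset.sum_ite_eq, Finset.mem_univ, if_true] at h
    rw [show (fv l : Vec m F) (Sum.inl k) = 0 by simp] at h
    have h' : a * (b l k - b k l) = 0 := by rw [← h]; ring
    exact (sub_eq_zero.1 ((mul_eq_zero.1 h').resolve_left ha)).symm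
  have hshear : ∀ (i j : Fin m) (h : i < j), (∀ k, k ≠ i → b k j = 0) ∧ 2 * b i j = 0 := by
    intro i j h
    obtain ⟨ε, hε⟩ := exists_scalar (s := z * shear (F := F) i j h.ne) (t := shear (F := F) i j h.ne * z) (by
      rw [map_mul, map_mul]; exact (hz _ (shear_mem_uni h)).eq)
    have hje : act (shear i j h.ne) (ev j : Vec m F) = ev j + ev i := by simp [shear_act, h.ne]
    have h1 := hε (ev j)
    rw [act_mul, act_mul, hje, hL (ev j + ev i) (fun k => by simp), hL _ (he j), act_smul, hje, smul_smul] at h1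
    have hsum : (ev j + ev i : Vec m F) ≠ 0 := fun e => by
      have := congrFun e (Sum.inl i)
      simp [h.ne] at this
    have hε1 : ε = 1 := mul_right_cancel₀ ha (by rw [one_mul]; exact (smul_left_injective F hsum h1).symm)
    have hc : ∀ x, act (shear i j h.ne) (act z x) = act z (act (shear i j h.ne) x) := fun x => by
      have := hε x
      rw [hε1, one_smul, act_mul, act_mul] at this
      exact this
    constructor
    · intro k hk
      have h2 := congrFun (hc (fv k)) (Sum.inl i)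
      have e : act (shear i j h.ne) (fv k : Vec m F) = fv k := by simp [shear_act, hk.symm]
      rw [e, shear_act, Pi.sub_apply, Pi.add_apply, Pi.smul_apply, Pi.smul_apply, hb, hb] at h2
      simpa using h2
    · have h2 := congrFun (hc (fv i)) (Sum.inl i)
      have e : act (shear i j h.ne) (fv i : Vec m F) = fv i - fv j := by simp [shear_act]
      rw [e, act_sub, shear_act, Pi.sub_apply, Pi.add_apply, Pi.smul_apply, Pi.smul_apply, Pi.sub_apply, hb, hb, hb] at h2
      simp at h2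
      rw [hsym j i] at h2
      linear_combination h2
  have hzero : ∀ k l : Fin m, k ≤ l → ¬ ((k = i0 ∧ l = i0) ∨ (k = i0 ∧ l = i1)) → b k l = 0 := by
    intro k l hkl hne
    have hkl' : (k : ℕ) ≤ l := hkl
    rcases Nat.lt_or_ge (l : ℕ) 1 with hl | hl
    · exact absurd (Or.inl ⟨Fin.ext (by simp [i0]; omega), Fin.ext (by simp [i0]; omega)⟩) hne
    rcases eq_or_ne k i0 with hk | hk
    · have hl1 : l ≠ i1 := fun e => hne (Or.inr ⟨hk, e⟩)
      have hl2 : 1 < (l : ℕ) := lt_of_le_of_ne hl fun e => hl1 (Fin.ext e.symm)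
      exact (hshear i1 l hl2).1 k (by rw [hk]; exact fun e => absurd (congrArg Fin.val e) (by simp [i0, i1]))
    · exact (hshear i0 l hl).1 k hk
  refine ⟨a, b i0 i0, b i0 i1, ha2, (hshear i0 i1 (Fin.mk_lt_mk.2 one_pos)).2, fun x => ?_⟩
  have h01 : i0 ≠ i1 := fun e => absurd (congrArg Fin.val e) (by simp [i0, i1])
  have hx : act z x = a • x + ∑ k, x (Sum.inr k) • ∑ l, b k l • ev l := by
    calc act z x = act z (∑ i, x (Sum.inl i) • ev i + ∑ i, x (Sum.inr i) • fv i) := by rw [← vec_eq]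
      _ = ∑ i, x (Sum.inl i) • (a • ev i) + ∑ i, x (Sum.inr i) • (a • fv i + ∑ l, b i l • ev l) := by
          have hsum : ∀ f : Fin m → Vec m F, act z (∑ i, f i) = ∑ i, act z (f i) := fun f => Matrix.mulVec_sum _ _ _
          rw [act_add, hsum, hsum]
          refine congrArg₂ (· + ·) (Finset.sum_congr rfl fun i _ => ?_) (Finset.sum_congr rfl fun i _ => ?_)
          · rw [act_smul, hL _ (he i)]
          · rw [act_smul, hfk i]
      _ = a • (∑ i, x (Sum.inl i) • ev i + ∑ i, x (Sum.inr i) • fv i) + ∑ k, x (Sum.inr k) • ∑ l, b k l • ev l := by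
          simp only [smul_add, Finset.sum_add_distrib, Finset.smul_sum, smul_comm a, add_assoc]
      _ = _ := by rw [← vec_eq]
  rw [hx, add_assoc]
  refine congrArg _ ?_
  have hz' : ∀ k l, ¬ ((k = i0 ∧ l = i0) ∨ (k = i0 ∧ l = i1) ∨ (k = i1 ∧ l = i0)) → b k l = 0 := fun k l h => by
    rcases le_total k l with hkl | hkl
    · exact hzero k l hkl fun h' => h (h'.imp_right Or.inl)
    · rw [hsym]; exact hzero l k hkl fun h' => h (h'.elim (fun h'' => Or.inl ⟨h''.2, h''.1⟩)
        fun h'' => Or.inr (Or.inr ⟨h''.2, h''.1⟩))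
  have r0 : ∑ l, b i0 l • (ev l : Vec m F) = b i0 i0 • ev i0 + b i0 i1 • ev i1 :=
    Fintype.sum_eq_add _ _ h01 fun l hl => by rw [hz' i0 l (by simp [hl.1, hl.2, h01]), zero_smul]
  have r1 : ∑ l, b i1 l • (ev l : Vec m F) = b i0 i1 • ev i0 := by
    rw [hsym i0 i1]
    exact Fintype.sum_eq_single _ fun l hl => by rw [hz' i1 l (by simp [hl, h01.symm]), zero_smul]
  rw [Fintype.sum_eq_add i0 i1 h01 fun k hk => by
    rw [Finset.sum_eq_zero fun l _ => by rw [hz' k l (by simp [hk.1, hk.2]), zero_smul], smul_zero], r0, r1]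
  module

/-! ### classes and Sylow subgroups -/

omit [Finite F] in
theorem exists_act_eq {v w : Vec m F} (hv : v ≠ 0) (hw : w ≠ 0) : ∃ s : SpM m F, act s v = w := by
  obtain ⟨t, -, ht⟩ := Symp.sp_transitive_ne_zero (Symp.sympBil_isAlt m F) (Symp.sympBil_nondegenerate m F) hv hw
  exact ⟨(Symp.symplecticEquiv m F).symm t, (Symp.symplecticEquiv_symm_mulVec t v).trans ht⟩

theorem card_ne_zero_vec : Nat.card {v : Vec m F // v ≠ 0} = Nat.card F ^ (2 * m) - 1 := by
  rw [Symp.natCard_ne_zero_eq (F := F), Symp.finrank_sympSpace]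

theorem card_class_T {v : Vec m F} (hv : v ≠ 0) (c : F) :
    Nat.card {x : Cfsg.PSp m F // IsConj (T v c) x} ≤ Nat.card F ^ (2 * m) - 1 := by
  have : Fintype F := Fintype.ofFinite F
  rw [← card_ne_zero_vec]
  refine Nat.card_le_card_of_surjective (fun w : {w : Vec m F // w ≠ 0} =>
    (⟨T (w : Vec m F) c, ?_⟩ : {x : Cfsg.PSp m F // IsConj (T v c) x})) ?_
  · obtain ⟨s, hs⟩ := exists_act_eq hv w.2
    exact isConj_iff.2 ⟨proj m F s, by rw [conj_T, hs]⟩
  · rintro ⟨x, hx⟩
    obtain ⟨g, hg⟩ := isConj_iff.1 hx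
    obtain ⟨s, rfl⟩ := proj_surjective g
    exact ⟨⟨_, act_ne_zero s hv⟩, Subtype.ext ((conj_T s v c).symm.trans hg)⟩

theorem exists_sylow_central (p : ℕ) [Fact p.Prime] [CharP F p] {v : Vec m F} (hm : 1 ≤ m) (hv : v ≠ 0) (c : F) :
    ∃ P : Sylow p (Cfsg.PSp m F), ∀ y ∈ P, Commute (T v c) y := by
  have : Fintype F := Fintype.ofFinite F
  letI iact : MulAction (SpM m F) (Vec m F) := { smul := act, one_smul := act_one, mul_smul := act_mul }
  have horb : (MulAction.orbit (SpM m F) v) = {w | w ≠ 0} := by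
    ext w
    exact ⟨fun ⟨s, e⟩ => e ▸ act_ne_zero s hv, fun hw => exists_act_eq hv hw⟩
  set H := MulAction.stabilizer (SpM m F) v
  have hidx : H.index = Nat.card F ^ (2 * m) - 1 := by
    rw [MulAction.index_stabilizer]
    refine (congrArg Set.ncard horb).trans ?_
    rw [← Nat.card_coe_set_eq]
    exact card_ne_zero_vec
  set C := Subgroup.centralizer ({T v c} : Set (Cfsg.PSp m F))
  have hC : H.map (proj m F) ≤ C := by
    rintro _ ⟨s, hs, rfl⟩
    rw [Subgroup.mem_centralizer_singleton_iff, ← mul_inv_eq_iff_eq_mul, conj_T,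
      show act s v = v from hs]
  have hCp : ¬ p ∣ C.index := fun hd => by
    have h1 := hd.trans ((Subgroup.index_dvd_of_le hC).trans (H.index_map_dvd proj_surjective))
    rw [hidx] at h1
    have hq : p ∣ Nat.card F := by
      obtain ⟨n, hp, hn⟩ := FiniteField.card F p
      rw [Nat.card_eq_fintype_card, hn]
      exact dvd_pow_self p n.ne_zero
    have h2 : 1 ≤ Nat.card F ^ (2 * m) := Nat.one_le_pow _ _ Nat.card_pos
    have h3 := Nat.dvd_sub (hq.trans (dvd_pow_self _ (by omega : 2 * m ≠ 0))) h1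
    rw [show Nat.card F ^ (2 * m) - (Nat.card F ^ (2 * m) - 1) = 1 by omega] at h3
    exact (Fact.out : p.Prime).not_dvd_one h3
  let Q : Sylow p C := default
  have hQ : ¬ p ∣ ((Q : Subgroup C).map C.subtype).index := by
    rw [Subgroup.index_map_subtype]
    exact (Fact.out : p.Prime).not_dvd_mul Q.not_dvd_index hCp
  refine ⟨(Q.2.map C.subtype).toSylow hQ, ?_⟩
  rintro _ ⟨y, -, rfl⟩
  exact (Subgroup.mem_centralizer_singleton_iff.1 y.2).symm

/-- rank two elements of characteristic two have large classes -/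
theorem card_class_rank_two (hm : 3 ≤ m) (h2 : (2 : F) = 0) {z : SpM m F} {b c : F} (hc : c ≠ 0)
    (hz : ∀ x : Vec m F,
      act z x = x + (b * x (Sum.inr ⟨0, by omega⟩) + c * x (Sum.inr ⟨1, by omega⟩)) • ev ⟨0, by omega⟩ +
        (c * x (Sum.inr ⟨0, by omega⟩)) • ev ⟨1, by omega⟩) :
    Nat.card F ^ (2 * m) - 1 < Nat.card {x : Cfsg.PSp m F // IsConj (proj m F z) x} := by
  classical
  have : Fintype F := Fintype.ofFinite F
  set i0 : Fin m := ⟨0, by omega⟩
  set i1 : Fin m := ⟨1, by omega⟩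
  have h01 : i0 ≠ i1 := fun e => absurd (congrArg Fin.val e) (by simp [i0, i1])
  have hv : ![(ev i0 : Vec m F), ev i1] ∈ Symp.isoTuples (bf : LinearMap.BilinForm F (Vec m F)) 2 := by
    refine ⟨LinearIndependent.pair_iff.2 fun s t hst => ?_, fun i j => ?_⟩
    · have e0 := congrFun hst (Sum.inl i0)
      have e1 := congrFun hst (Sum.inl i1)
      simp [h01, h01.symm] at e0 e1
      exact ⟨e0, e1⟩
    · fin_cases i <;> fin_cases j <;> simp [bf_ev_left]
  set P := Symp.isoTuples (bf : LinearMap.BilinForm F (Vec m F)) 2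
  have hP : ∀ p : P, ∃ s : SpM m F, act s (ev i0) = (p : Fin 2 → Vec m F) 0 ∧ act s (ev i1) = (p : Fin 2 → Vec m F) 1 := by
    intro p
    obtain ⟨g, hg⟩ := Symp.exists_map_isoTuples (Symp.sympBil_isAlt m F) (Symp.sympBil_nondegenerate m F) hv p.2
    exact ⟨(Symp.symplecticEquiv m F).symm g, (Symp.symplecticEquiv_symm_mulVec g _).trans (hg 0),
      (Symp.symplecticEquiv_symm_mulVec g _).trans (hg 1)⟩
  choose s hs0 hs1 using hP
  have hrep : ∀ x : {x : Cfsg.PSp m F // IsConj (proj m F z) x}, ∃ r : SpM m F, proj m F (r * z * r⁻¹) = x.1 := by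
    intro x
    obtain ⟨g, hg⟩ := isConj_iff.1 x.2
    obtain ⟨r, rfl⟩ := proj_surjective g
    exact ⟨r, by rw [map_mul, map_mul, map_inv, hg]⟩
  choose r hr using hrep
  let xp : P → {x : Cfsg.PSp m F // IsConj (proj m F z) x} := fun p =>
    ⟨proj m F (s p * z * (s p)⁻¹), isConj_iff.2 ⟨proj m F (s p), by rw [map_mul, map_mul, map_inv]⟩⟩
  have hinj : ∀ p, r (xp p) * z * (r (xp p))⁻¹ = s p * z * (s p)⁻¹ := by
    intro p
    obtain ⟨a, ha⟩ := exists_scalar (hr (xp p))
    have ha1 : a = 1 := by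
      have h := bf_act (s p * z * (s p)⁻¹) (act (r (xp p) * z * (r (xp p))⁻¹)⁻¹ (fv i0))
        (act (r (xp p) * z * (r (xp p))⁻¹)⁻¹ (ev i0))
      rw [ha, ha, act_act_inv, act_act_inv, bf_act, LinearMap.map_smul, LinearMap.map_smul, LinearMap.smul_apply,
        bf_ev_right] at h
      simp at h
      exact sub_eq_zero.1 (pow_eq_zero_iff two_ne_zero |>.1 (show (a - 1) ^ 2 = 0 by
        linear_combination h + (1 - a) * h2))
    exact ext_act fun x => by rw [ha, ha1, one_smul]
  have hN : ∀ y : Vec m F, ∃ α β : F, act z y - y = α • ev i0 + β • ev i1 := fun y =>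
    ⟨_, _, by rw [hz, add_assoc, add_sub_cancel_left]⟩
  have hspan : ∀ p (y : Vec m F), ∃ α β : F,
      act (s p) (act z y - y) = act (r (xp p)) (α • ev i0 + β • ev i1) := by
    intro p y
    obtain ⟨α, β, hab⟩ := hN (act (r (xp p))⁻¹ (act (s p) y))
    refine ⟨α, β, ?_⟩
    rw [← hab, act_sub, act_sub, act_act_inv, ← act_mul, ← act_mul, ← act_mul, hinj, ← act_mul, inv_mul_cancel_right]
  have hcoef : ∀ p : P, ∀ i : Fin 2, ∃ w : F × F, (p : Fin 2 → Vec m F) i = act (r (xp p)) (w.1 • ev i0 + w.2 • ev i1) := by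
    intro p
    have e0 : act z (fv i1) - fv i1 = c • ev i0 := by
      rw [hz]; simp [h01]
    have e1 : act z (fv i0) - fv i0 = b • ev i0 + c • ev i1 := by
      rw [hz]; simp [h01.symm, add_assoc]
    obtain ⟨α, β, hab⟩ := hspan p (fv i1)
    rw [e0, act_smul, hs0] at hab
    obtain ⟨α', β', hab'⟩ := hspan p (fv i0)
    rw [e1, act_add, act_smul, act_smul, hs0, hs1] at hab'
    have h0 : (p : Fin 2 → Vec m F) 0 = act (r (xp p)) ((c⁻¹ * α) • ev i0 + (c⁻¹ * β) • ev i1) := by
      rw [← smul_smul, ← smul_smul, ← smul_add, act_smul, ← hab, smul_smul, inv_mul_cancel₀ hc, one_smul]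
    have h1 : (p : Fin 2 → Vec m F) 1 = act (r (xp p))
        ((c⁻¹ * (α' - b * (c⁻¹ * α))) • ev i0 + (c⁻¹ * (β' - b * (c⁻¹ * β))) • ev i1) := by
      rw [← smul_smul c⁻¹, ← smul_smul c⁻¹, ← smul_add, sub_smul, sub_smul, ← smul_smul b, ← smul_smul b,
        show ∀ u v w t : Vec m F, u - w + (v - t) = u + v - (w + t) from fun u v w t => by abel, ← smul_add b,
        act_smul, act_sub, act_smul, ← h0, ← hab', add_sub_cancel_left, smul_smul, inv_mul_cancel₀ hc, one_smul]
    intro i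
    fin_cases i
    · exact ⟨(_, _), h0⟩
    · exact ⟨(_, _), h1⟩
  choose w hw using hcoef
  have hle : Nat.card P ≤ Nat.card {x : Cfsg.PSp m F // IsConj (proj m F z) x} * (Nat.card F ^ 2) ^ 2 := by
    have h := Nat.card_le_card_of_injective (fun p => (xp p, w p)) (fun p p' h => by
      obtain ⟨hx, hw'⟩ := Prod.mk.injEq .. ▸ h
      exact Subtype.ext (funext fun i => by rw [hw p i, hw p' i, hx, hw']))
    simpa [Nat.card_prod, Nat.card_fun, pow_two] using h
  by_contra hcon
  push Not at hcon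
  obtain ⟨k, rfl⟩ : ∃ k, m = k + 2 := ⟨m - 2, by omega⟩
  have hcard := Symp.card_isoTuples (Symp.sympBil_isAlt (k + 2) F) (Symp.sympBil_nondegenerate (k + 2) F)
    (Symp.finrank_sympSpace (k + 2) F) (show 2 ≤ k + 2 by omega)
  set q := Nat.card F
  have hq : 2 ≤ q := Finite.one_lt_card
  rw [show k + 2 - 2 = k by omega, Symp.ordProd, Symp.ordProd, Finset.prod_range_succ, Finset.prod_range_succ] at hcard
  have hpos : 0 < ∏ i ∈ Finset.range k, (q ^ (2 * (i + 1)) - 1) := Symp.ordProd_pos hq k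
  have hcard' : Nat.card P = q * ((q ^ (2 * (k + 1)) - 1) * (q ^ (2 * (k + 2)) - 1)) := by
    apply Nat.eq_of_mul_eq_mul_right hpos
    rw [hcard]; simp; ring
  rw [hcard'] at hle
  have h1 : 0 < q ^ (2 * (k + 2)) - 1 := by
    have : 1 < q ^ (2 * (k + 2)) := Nat.one_lt_pow (by omega) hq
    omega
  have h3 : q * (q ^ (2 * (k + 1)) - 1) * (q ^ (2 * (k + 2)) - 1) ≤ (q ^ 2) ^ 2 * (q ^ (2 * (k + 2)) - 1) := by
    rw [mul_assoc]
    refine hle.trans ?_
    rw [mul_comm]
    exact Nat.mul_le_mul_left _ hcon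
  have h4 : q * (q ^ (2 * (k + 1)) - 1) ≤ q * q ^ 3 :=
    (Nat.le_of_mul_le_mul_right h3 h1).trans (le_of_eq (by ring))
  have h5 := Nat.le_of_mul_le_mul_left h4 (by omega)
  have h6 : q ^ 4 ≤ q ^ (2 * (k + 1)) := Nat.pow_le_pow_right (by omega) (by omega)
  have h7 : q ^ 4 = q ^ 3 * q := by ring
  have h8 : 2 ^ 3 ≤ q ^ 3 := Nat.pow_le_pow_left hq 3
  have h9 : q ^ 3 * 2 ≤ q ^ 3 * q := Nat.mul_le_mul_left _ hq
  omega

/-- automorphisms of `PSp` send transvections to transvections -/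
theorem root_image (hm : 2 ≤ m) (hgood : m = 2 → (2 : F) ≠ 0) (β : MulAut (Cfsg.PSp m F)) {v : Vec m F} {c : F}
    (hv : v ≠ 0) (hc : c ≠ 0) : ∃ w d, w ≠ 0 ∧ d ≠ 0 ∧ β (T v c) = T w d := by
  have : Fintype F := Fintype.ofFinite F
  obtain ⟨p, hp⟩ := CharP.exists F
  haveI : Fact p.Prime := ⟨CharP.char_is_prime F p⟩
  suffices h : ∃ w d, β (T v c) = T w d by
    obtain ⟨w, d, hwd⟩ := h
    obtain ⟨hw, hd⟩ := ne_zero_of_T_ne_one fun e : T w d = (1 : Cfsg.PSp m F) =>
      T_ne_one hm hv hc (β.injective (hwd.trans (e.trans (map_one β).symm)))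
    exact ⟨w, d, hw, hd, hwd⟩
  obtain ⟨P₁, hP₁⟩ := exists_sylow_central p (by omega : 1 ≤ m) hv c
  obtain ⟨P₂, hP₂⟩ := ((isPGroup_uni (m := m) (F := F) (by omega) p).map (proj m F)).exists_le_sylow
  obtain ⟨g, hg⟩ := MulAction.exists_smul_eq (Cfsg.PSp m F) P₂ (Sylow.mapSurjective (f := β.toMonoidHom) β.surjective P₁)
  obtain ⟨z, hz⟩ := proj_surjective (g⁻¹ * β (T v c) * g)
  have hzc : ∀ s ∈ uni m F, Commute (proj m F z) (proj m F s) := by
    intro s hs
    have hmem : g * proj m F s * g⁻¹ ∈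
        ((Sylow.mapSurjective (f := β.toMonoidHom) β.surjective P₁ : Sylow p _) : Subgroup (Cfsg.PSp m F)) := by
      rw [← hg]
      exact ⟨proj m F s, hP₂ ⟨s, hs, rfl⟩, rfl⟩
    obtain ⟨y, hy, hy'⟩ := Subgroup.mem_map.1 (Sylow.coe_mapSurjective (f := β.toMonoidHom) β.surjective P₁ ▸ hmem)
    have h := (hP₁ y hy).map β.toMonoidHom
    rw [hy'] at h
    rw [hz]
    have h' := congrArg (fun x => g⁻¹ * x * g) h.eq
    show g⁻¹ * β (T v c) * g * proj m F s = proj m F s * (g⁻¹ * β (T v c) * g)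
    simpa [mul_assoc] using h'
  obtain ⟨a, b, d, ha, hd, hact⟩ := centralizer_uni hm hzc
  obtain ⟨u, hu⟩ := proj_surjective g
  have hback : β (T v c) = g * proj m F z * g⁻¹ := by rw [hz]; group
  by_cases hd0 : d = 0
  · refine ⟨act u (ev ⟨0, by omega⟩), b * a, ?_⟩
    rw [hback, ← hu, ← conj_T]
    refine congrArg (fun x => proj m F u * x * (proj m F u)⁻¹) (proj_eq_of_scalar (a := a) fun x => ?_)
    rw [hact, tv_act, bf_ev_right, hd0, zero_mul, zero_mul, zero_smul, add_zero, add_zero, smul_add, smul_smul]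
    rw [← pow_two, ha, one_smul, smul_smul]
    congr 2
    ring
  · have h2 : (2 : F) = 0 := by
      rcases mul_eq_zero.1 hd with h | h
      · exact h
      · exact absurd h hd0
    have hm3 : 3 ≤ m := by
      by_contra h
      exact hgood (by omega) h2
    have ha1 : a = 1 := sub_eq_zero.1 (pow_eq_zero_iff two_ne_zero |>.1 (show (a - 1) ^ 2 = 0 by
      linear_combination ha + (1 - a) * h2))
    have hlt := card_class_rank_two hm3 h2 hd0 (z := z) (b := b) (fun x => by rw [hact, ha1, one_smul])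
    have e1 : Nat.card {x : Cfsg.PSp m F // IsConj (proj m F z) x} =
        Nat.card {x : Cfsg.PSp m F // IsConj (T v c) x} := by
      refine Nat.card_congr ((β.toEquiv.subtypeEquiv fun x => ?_).symm)
      show IsConj (T v c) x ↔ IsConj (proj m F z) (β x)
      have hcz : IsConj (proj m F z) (β (T v c)) := isConj_iff.2 ⟨g, hback.symm⟩
      refine ⟨fun h => hcz.trans (β.toMonoidHom.map_isConj h), fun h => ?_⟩
      have h' := β.symm.toMonoidHom.map_isConj (hcz.symm.trans h)
      simpa using h'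
    exact absurd (card_class_T (m := m) hv c) (by omega)

end CfsgLib.Known.AutPSp
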